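import Cfsg.Agent.Depth.K.Big
import Cfsg.Agent.Depth.G.Gen

/-!
# Depth (S5768): the goal from the analytic boxes (helper15)
-/

set_option autoImplicit false

namespace Cfsg.Agent.Depth.K

theorem bigX (hL59 : LBox 59) (hL47 : LBox 47) (hM : MainBox) (hNu : BoxNu) (hR : BoxR) (hNum : BoxNum) :
    G.BigX (10 ^ 24) := big24 hL59 hL47 hM hNu hR hNum

/-- **S5768 from the analytic boxes** -/
theorem goal_of (hL59 : LBox 59) (hL47 : LBox 47) (hM : MainBox) (hNu : BoxNu) (hR : BoxR) (hNum : BoxNum) : Goal :=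
  G.goal24 (bigX hL59 hL47 hM hNu hR hNum)

end Cfsg.Agent.Depth.K
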